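import Mathlib

/-!
Substitution of generators of the ideal of series without constant term is bijective.
-/

set_option autoImplicit false
universe u
open MvPowerSeries

namespace Groth.Agent.PowerSeriesInvLib

variable {R : Type u} [CommRing R] {n : ℕ}

theorem injective_of_surjective_endo {A : Type*} [CommRing A] [IsNoetherianRing A] (φ : A →+* A)
    (h : Function.Surjective φ) : Function.Injective φ := by
  let K : ℕ →o Ideal A := ⟨fun k => RingHom.ker (φ ^ k), monotone_nat_of_le_succ fun k x hx => by
    rw [RingHom.mem_ker] at hx ⊢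
    rw [pow_succ', RingHom.mul_def, RingHom.comp_apply, hx, map_zero]⟩
  obtain ⟨m, hm⟩ := monotone_stabilizes_iff_noetherian.2 ‹_› K
  rw [injective_iff_map_eq_zero]
  intro x hx
  obtain ⟨y, rfl⟩ := (φ.coe_pow m ▸ h.iterate m : Function.Surjective ⇑(φ ^ m)) x
  have hy : y ∈ K (m + 1) := by
    show y ∈ RingHom.ker (φ ^ (m + 1))
    rw [RingHom.mem_ker, pow_succ', RingHom.mul_def, RingHom.comp_apply, hx]
  rw [← hm (m + 1) m.le_succ] at hy
  exact RingHom.mem_ker.1 hy

theorem pow_order_ge {N : ℕ} {f : MvPowerSeries (Fin n) R}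
    (h : f ∈ (RingHom.ker (constantCoeff (R := R) (σ := Fin n))) ^ N) : (N : ℕ∞) ≤ f.order := by
  induction N generalizing f with
  | zero => simp
  | succ N ih =>
    rw [pow_succ] at h
    refine Submodule.mul_induction_on h (fun a ha b hb => ?_) (fun a b ha hb => le_trans (le_min ha hb) min_order_le_add)
    rw [Nat.cast_add, Nat.cast_one]
    exact (add_le_add (ih ha) (one_le_order_iff_constCoeff_eq_zero.2 hb)).trans le_order_mul

theorem surjective_subst (y : Fin n → MvPowerSeries (Fin n) R) (hy0 : ∀ i, constantCoeff (y i) = 0)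
    (hgen : RingHom.ker (constantCoeff (R := R) (σ := Fin n)) ≤ Ideal.span (Set.range y)) :
    Function.Surjective (subst y : MvPowerSeries (Fin n) R → MvPowerSeries (Fin n) R) := by
  classical
  set I := RingHom.ker (constantCoeff (R := R) (σ := Fin n)) with hI
  have ha : HasSubst y := hasSubst_of_constantCoeff_zero hy0
  have hyI : ∀ i, y i ∈ I := fun i => hy0 i
  have step : ∀ (k : ℕ) (r : MvPowerSeries (Fin n) R), r ∈ I ^ k → ∃ P : MvPolynomial (Fin n) R,
      P.IsHomogeneous k ∧ r - MvPolynomial.aeval y P ∈ I ^ (k + 1) := by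
    intro k
    induction k with
    | zero =>
      intro r _
      refine ⟨MvPolynomial.C (constantCoeff r), MvPolynomial.isHomogeneous_C _ _, ?_⟩
      rw [zero_add, pow_one, hI, RingHom.mem_ker, map_sub, MvPolynomial.aeval_C]
      rw [show algebraMap R (MvPowerSeries (Fin n) R) (constantCoeff r) = C (constantCoeff r) from rfl,
        constantCoeff_C, sub_self]
    | succ k ih =>
      intro r hr
      rw [pow_succ] at hr
      refine Submodule.mul_induction_on hr (fun a ha' b hb => ?_) (fun a b ha' hb => ?_)
      · obtain ⟨c, hc⟩ := (Ideal.mem_span_range_iff_exists_fun).1 (hgen hb)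
        obtain ⟨P, hP, hPa⟩ := ih a ha'
        let Q : MvPolynomial (Fin n) R := ∑ i, MvPolynomial.C (constantCoeff (c i)) * MvPolynomial.X i
        have hQ : Q.IsHomogeneous 1 := MvPolynomial.IsHomogeneous.sum _ _ _ fun i _ =>
          (MvPolynomial.isHomogeneous_C (Fin n) (constantCoeff (c i))).mul (MvPolynomial.isHomogeneous_X R i)
        refine ⟨P * Q, hP.mul hQ, ?_⟩
        have hQb : b - MvPolynomial.aeval y Q ∈ I ^ 2 := by
          simp only [Q, map_sum, map_mul, MvPolynomial.aeval_C, MvPolynomial.aeval_X, ← hc, ← Finset.sum_sub_distrib]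
          refine Submodule.sum_mem _ fun i _ => ?_
          rw [← sub_mul, pow_two]
          refine Ideal.mul_mem_mul ?_ (hyI i)
          rw [hI, RingHom.mem_ker, map_sub,
            show algebraMap R (MvPowerSeries (Fin n) R) (constantCoeff (c i)) = C (constantCoeff (c i)) from rfl,
            constantCoeff_C, sub_self]
        have hQ1 : MvPolynomial.aeval y Q ∈ I := by
          simp only [Q, map_sum, map_mul, MvPolynomial.aeval_X]
          exact Submodule.sum_mem _ fun i _ => Ideal.mul_mem_left _ _ (hyI i)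
        rw [map_mul, show a * b - MvPolynomial.aeval y P * MvPolynomial.aeval y Q =
          (a - MvPolynomial.aeval y P) * MvPolynomial.aeval y Q + a * (b - MvPolynomial.aeval y Q) by ring]
        refine add_mem ?_ ?_
        · rw [pow_succ (n := k + 1)]; exact Ideal.mul_mem_mul hPa hQ1
        · rw [show k + 1 + 1 = k + 2 from rfl, pow_add]; exact Ideal.mul_mem_mul ha' hQb
      · obtain ⟨P, hP, hPa⟩ := ha'
        obtain ⟨Q, hQ, hQb⟩ := hb
        refine ⟨P + Q, hP.add hQ, ?_⟩
        rw [map_add, add_sub_add_comm]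
        exact add_mem hPa hQb
  intro f
  choose P hP hPr using step
  let rs : ∀ k, {r : MvPowerSeries (Fin n) R // r ∈ I ^ k} := fun k => Nat.rec ⟨f, by simp⟩
    (fun k r => ⟨r.1 - MvPolynomial.aeval y (P k r.1 r.2), hPr k r.1 r.2⟩) k
  let Pk : ℕ → MvPolynomial (Fin n) R := fun k => P k (rs k).1 (rs k).2
  have hsum : ∀ N, MvPolynomial.aeval y (∑ k ∈ Finset.range N, Pk k) = f - (rs N).1 := by
    intro N
    induction N with
    | zero => simp [rs]
    | succ N ih =>
      rw [Finset.sum_range_succ, map_add, ih]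
      show _ = f - ((rs N).1 - MvPolynomial.aeval y (Pk N))
      ring
  let g : MvPowerSeries (Fin n) R := fun d => MvPolynomial.coeff d (Pk d.degree)
  refine ⟨g, ?_⟩
  rw [← sub_eq_zero, ← order_eq_top_iff, ENat.eq_top_iff_forall_ge]
  intro N
  have htail : (N : ℕ∞) ≤ (g - (↑(∑ k ∈ Finset.range N, Pk k) : MvPowerSeries (Fin n) R)).order := by
    refine nat_le_order fun d hd => ?_
    rw [map_sub, MvPolynomial.coeff_coe, MvPolynomial.coeff_sum, Finset.sum_eq_single d.degree]
    · exact sub_self _
    · intro k _ hk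
      exact (hP k (rs k).1 (rs k).2).coeff_eq_zero (Ne.symm hk)
    · exact fun h => absurd (Finset.mem_range.2 hd) h
  have h1 : (N : ℕ∞) ≤ (subst y (g - (↑(∑ k ∈ Finset.range N, Pk k) : MvPowerSeries (Fin n) R))).order := by
    refine le_trans ?_ (le_order_subst ha _)
    refine le_trans (le_of_eq (one_mul _).symm) (mul_le_mul' ?_ htail)
    exact le_iInf fun i => one_le_order_iff_constCoeff_eq_zero.2 (hy0 i)
  rw [← coe_substAlgHom ha, map_sub, coe_substAlgHom ha, subst_coe, hsum] at h1
  have h2 := pow_order_ge (rs N).2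
  rw [show subst y g - f = (subst y g - (f - (rs N).1)) + (-(rs N).1) by ring]
  exact le_trans (le_min h1 (h2.trans (le_of_eq (order_neg _).symm))) min_order_le_add

theorem bijective_subst [IsNoetherianRing R] (y : Fin n → MvPowerSeries (Fin n) R) (hy0 : ∀ i, constantCoeff (y i) = 0)
    (hgen : RingHom.ker (constantCoeff (R := R) (σ := Fin n)) ≤ Ideal.span (Set.range y)) :
    Function.Bijective (subst y : MvPowerSeries (Fin n) R → MvPowerSeries (Fin n) R) := by
  have ha : HasSubst y := hasSubst_of_constantCoeff_zero hy0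
  have h := surjective_subst y hy0 hgen
  refine ⟨?_, h⟩
  rw [← coe_substAlgHom ha] at h ⊢
  exact injective_of_surjective_endo (substAlgHom ha).toRingHom h

end Groth.Agent.PowerSeriesInvLib
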